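import Groth.Prelude.Def_AlphaP
import Groth.Prelude.Def_ConstGrp
import Mathlib.RingTheory.HopfAlgebra.MonoidAlgebra
import Mathlib.RingTheory.Nilpotent.Basic
import Mathlib.Algebra.Field.ZMod

/-!
The Hopf algebras of `ℤ/p`, `μ_p` and `α_p` in characteristic `p`.
-/

universe u v w

open TensorProduct

noncomputable section

namespace Groth.Agent.AlphaP34

theorem false_of_nilpotent_iso {R : Type u} [CommRing R] [Nontrivial R] {X : Type v} [CommRing X] [Algebra R X]
    {G : Type w} [Fintype G] [DecidableEq G] {p : ℕ} {t : X} (ht : t ^ p = 0) (c : X →ₗ[R] R) (hc : c t = 1)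
    (φ : X ≃ₐ[R] ConstGrp.F R G) : False := by
  obtain ⟨P, hP⟩ := Ideal.exists_maximal R
  have hv : ∀ g, φ t g ∈ P := fun g => by
    refine hP.isPrime.mem_of_pow_mem p ?_
    have h : (ConstGrp.ev R g (φ t)) ^ p = 0 := by rw [← map_pow, ← map_pow, ht, map_zero, map_zero]
    rw [ConstGrp.ev_apply] at h
    rw [h]
    exact zero_mem _
  have h1 : (1 : R) = ∑ g, φ t g * c (φ.symm (ConstGrp.e R g)) := by
    conv_lhs => rw [← hc, ← φ.symm_apply_apply t, ConstGrp.eq_sum_smul_e (φ t)]
    simp only [map_sum, map_smul, smul_eq_mul]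
  exact hP.ne_top (P.eq_top_iff_one.2 (h1 ▸ sum_mem fun g _ => P.mul_mem_right _ (hv g)))

variable (p : ℕ) [Fact p.Prime] (R : Type u) [CommRing R] [CharP R p]

theorem nontriv (p : ℕ) [Fact p.Prime] (R : Type u) [CommRing R] [CharP R p] : Nontrivial R := CharP.nontrivial_of_char_ne_one (R := R) (Fact.out : p.Prime).ne_one

theorem charP_group : CharP (MonoidAlgebra R (Multiplicative (ZMod p))) p :=
  charP_of_injective_algebraMap (Bialgebra.algebraMap_injective (R := R) _) p

/-- the generator of `ℤ/p` -/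
abbrev gen : Multiplicative (ZMod p) := Multiplicative.ofAdd 1

theorem gen_pow : (gen p) ^ p = 1 := by
  rw [gen, ← ofAdd_nsmul, nsmul_eq_mul, mul_one, CharP.cast_eq_zero (ZMod p) p]
  rfl

theorem of_gen_sub_one_pow :
    (MonoidAlgebra.of R (Multiplicative (ZMod p)) (gen p) - 1) ^ p = 0 := by
  have := charP_group p R
  rw [sub_pow_char, ← map_pow, gen_pow, map_one, one_pow, sub_self]

theorem coeff_of_gen_sub_one :
    ((Finsupp.lapply (gen p)).comp (MonoidAlgebra.coeffLinearEquiv R).toLinearMap : MonoidAlgebra R (Multiplicative (ZMod p)) →ₗ[R] R)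
      (MonoidAlgebra.of R (Multiplicative (ZMod p)) (gen p) - 1) = 1 := by
  have hne : (1 : Multiplicative (ZMod p)) ≠ gen p := fun h => zero_ne_one (α := ZMod p) (congrArg (fun z : Multiplicative (ZMod p) => z.toAdd) h)
  rw [map_sub, ← map_one (MonoidAlgebra.of R (Multiplicative (ZMod p)))]
  simp [MonoidAlgebra.of, Finsupp.single_apply, hne]

theorem natCast_isUnit {i : ℕ} (h0 : 0 < i) (hi : i < p) : IsUnit (i : R) := by
  have h : IsUnit (i : ZMod p) := isUnit_iff_ne_zero.2 fun h =>
    absurd (Nat.le_of_dvd h0 ((CharP.cast_eq_zero_iff (ZMod p) p i).1 h)) (not_le.2 hi)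
  simpa using h.map (ZMod.castHom (dvd_refl p) R)

/-- the coefficient of `x ^ i` -/
def coord (i : Fin p) : AlphaP.A p R →ₗ[R] R :=
  haveI := nontriv p R
  (AlphaP.basis p R).coord i

theorem coord_pow (i : Fin p) (n : ℕ) :
    coord p R i (AlphaP.x p R ^ n) = if n = (i : ℕ) then 1 else 0 := by
  haveI := nontriv p R
  by_cases hn : n < p
  · rw [coord, Module.Basis.coord_apply,
      show AlphaP.x p R ^ n = AlphaP.basis p R ⟨n, hn⟩ by rw [AlphaP.basis_apply], Module.Basis.repr_self,
      Finsupp.single_apply]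
    simp [Fin.ext_iff]
  · rw [AlphaP.x_pow_of_le p R (not_lt.1 hn), map_zero, if_neg]
    have := i.2; omega

/-- the linear coefficient -/
def lin : AlphaP.A p R →ₗ[R] R := coord p R ⟨1, (Fact.out : p.Prime).one_lt⟩

theorem lin_one : lin p R 1 = 0 := by
  have := coord_pow p R ⟨1, (Fact.out : p.Prime).one_lt⟩ 0
  simpa [lin] using this

theorem lin_x : lin p R (AlphaP.x p R) = 1 := by
  have := coord_pow p R ⟨1, (Fact.out : p.Prime).one_lt⟩ 1
  simpa [lin] using this

/-- differentiation with respect to `x`, as a convolution with the linear coefficient -/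
def ddx : AlphaP.A p R →ₗ[R] AlphaP.A p R :=
  (TensorProduct.rid R (AlphaP.A p R)).toLinearMap ∘ₗ (lin p R).lTensor _ ∘ₗ CoalgebraStruct.comul (R := R)

theorem ddx_pow (n : ℕ) : ddx p R (AlphaP.x p R ^ n) = n • AlphaP.x p R ^ (n - 1) := by
  show TensorProduct.rid R _ ((lin p R).lTensor _ (CoalgebraStruct.comul (R := R) (AlphaP.x p R ^ n))) = _
  rw [Bialgebra.comul_pow, AlphaP.comul_x, add_pow, map_sum, map_sum, Finset.sum_eq_single (n - 1)]
  · rcases Nat.eq_zero_or_pos n with rfl | hn
    · simp [Algebra.TensorProduct.one_def, lin_one]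
    · rw [Nat.sub_sub_self hn, Algebra.TensorProduct.tmul_pow, Algebra.TensorProduct.tmul_pow, one_pow, one_pow,
        Algebra.TensorProduct.tmul_mul_tmul, mul_one, one_mul, pow_one,
        show ((n.choose (n - 1) : ℕ) : AlphaP.A p R ⊗[R] AlphaP.A p R) = (n : ℕ) by
          rw [Nat.choose_symm hn, Nat.choose_one_right],
        ← Nat.cast_comm, ← nsmul_eq_mul, map_nsmul, map_nsmul]
      simp [lin_x]
  · intro b hb hne
    rw [Algebra.TensorProduct.tmul_pow, Algebra.TensorProduct.tmul_pow, one_pow, one_pow,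
      Algebra.TensorProduct.tmul_mul_tmul, mul_one, one_mul, ← nsmul_eq_mul']
    rw [map_nsmul, map_nsmul, LinearMap.lTensor_tmul, TensorProduct.rid_tmul]
    have h0 : lin p R (AlphaP.x p R ^ (n - b)) = 0 := by
      rw [lin, coord_pow, if_neg]
      have := Finset.mem_range.1 hb
      show ¬ n - b = 1
      omega
    rw [h0, zero_smul, smul_zero]
  · intro h
    exact absurd (Finset.mem_range.2 (by omega)) h

theorem expand (y : AlphaP.A p R) : y = ∑ i : Fin p, coord p R i y • AlphaP.x p R ^ (i : ℕ) := by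
  haveI := nontriv p R
  conv_lhs => rw [← (AlphaP.basis p R).sum_repr y]
  simp [coord]

/-- coefficients of the derivative -/
theorem coord_ddx (y : AlphaP.A p R) {i : ℕ} (hi : i + 1 < p) :
    coord p R ⟨i, by omega⟩ (ddx p R y) = (i + 1 : ℕ) * coord p R ⟨i + 1, hi⟩ y := by
  conv_lhs => rw [expand p R y]
  simp only [map_sum, map_smul, ddx_pow, map_nsmul, coord_pow]
  simp only [smul_eq_mul, nsmul_eq_mul]
  rw [Finset.sum_eq_single (⟨i + 1, hi⟩ : Fin p)]
  · simp [mul_comm]
  · intro j _ hj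
    rcases Nat.eq_zero_or_pos (j : ℕ) with h | h
    · simp [h]
    · rw [if_neg, mul_zero, mul_zero]
      intro h2
      exact hj (Fin.ext (by show (j : ℕ) = i + 1; omega))
  · intro h; exact absurd (Finset.mem_univ _) h

theorem ddx_iterate_pow (m : ℕ) : ∀ n, n < m → (ddx p R ^ m) (AlphaP.x p R ^ n) = 0 := by
  induction m with
  | zero => intro n h; omega
  | succ m ih =>
    intro n hn
    rw [pow_succ, Module.End.mul_apply, ddx_pow, map_nsmul]
    rcases Nat.eq_zero_or_pos n with rfl | h
    · simp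
    · rw [ih (n - 1) (by omega), smul_zero]

theorem ddx_iterate (y : AlphaP.A p R) : (ddx p R ^ p) y = 0 := by
  conv_lhs => rw [expand p R y]
  simp only [map_sum, map_smul]
  exact Finset.sum_eq_zero fun i _ => by rw [ddx_iterate_pow p R p _ i.2, smul_zero]

theorem counit_eq_coord (y : AlphaP.A p R) :
    CoalgebraStruct.counit (R := R) y = coord p R ⟨0, (Fact.out : p.Prime).pos⟩ y := by
  conv_lhs => rw [expand p R y]
  simp only [map_sum, map_smul, Bialgebra.counit_pow, AlphaP.counit_x, smul_eq_mul]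
  rw [Finset.sum_eq_single (⟨0, (Fact.out : p.Prime).pos⟩ : Fin p)]
  · simp
  · intro j _ hj
    rw [zero_pow (fun h => hj (Fin.ext h)), mul_zero]
  · intro h; exact absurd (Finset.mem_univ _) h

end Groth.Agent.AlphaP34
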